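import Cfsg.Agent.H501.TwoCyc.Ord_m3
import Cfsg.Agent.H557.LrE7
import Cfsg.Agent.KFacts.RgdCent
import Cfsg.Agent.BpExc.TorChev
import Cfsg.Agent.ChevFast.E7
import Cfsg.Agent.ChevFast.Lin
import Cfsg.Agent.Lib.ListFast
import Cfsg.Agent.Nodes.RGDFoldSL
import Mathlib
import Cfsg.Agent.Nodes.Sub
import Cfsg.Agent.Nodes.CardSup_m3
import Cfsg.Agent.KFacts.RgdSL
import Cfsg.Agent.UGT.U2.FOne.QsRGD
import Cfsg.Agent.H589.FF.Deg
import Cfsg.Agent.H965.XZ.Walk
import Cfsg.Agent.H904.E7Main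
import Cfsg.Agent.S1035
import Cfsg.Agent.H122.Pw.Pc
import Cfsg.Agent.TitsThree.RTFast
import Cfsg.Agent.FastGrp
import Cfsg.Agent.Prune
set_option linter.all false

section
prune_inst 0x7ffffefbbffcfddfffff7fbffefddffdf3e9ffffeffffbfbfffce1bf2bdf6f8cffc7fbbffff152ff3fd7e3be34b87b53fdfffbbfeb6bdd7ffffd5ff41ffbee1fb5e7b72d71f5bc3e1ffe4fff8bf0ffca7f3fffffffffffffffffffffffffffbefffdffffffff

-- part: R2/E72T/Tor
section
prune_inst 0x104000002200000004000020002081400000000040000001440040000020038000000000c000020100043420088020004400490228000000008600411c04a184880000a0080000000007009000400000000000000000000000000000000000200000000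
set_option linter.all false
open scoped Cfsg.Agent.FastGrp

-- part: R2/E72T/Cent
section
/-!
# Centralisers of root elements in `E₇(K)`, `K` finite of characteristic 2 (S5934, box T)

`cent_one` : an element commuting with `x_r(1)`, `r ∈ L`, `L = -L`, is a product of a torus element and an element of
the group generated by the root groups orthogonal to `L`.
-/

set_option autoImplicit false
set_option linter.unusedSectionVars false

namespace Cfsg.Agent.R2.E72T

open CoxeterSystem Cfsg.Agent.ChevalleyStructure.CoxeterGeom Cfsg.Agent.Tits.Roots Cfsg.Agent.Tits.Core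
  Cfsg.Agent.Tits.RootComb Cfsg.Agent.Nodes.Comb Cfsg.Agent.Nodes.Reps Cfsg.Agent.Nodes.BNOf
  Cfsg.Agent.Nodes.StabComb Cfsg.Agent.Nodes.Bruhat Cfsg.Agent.Nodes.LeviDec Cfsg.Agent.Nodes.OppDec
  Cfsg.Agent.Nodes.Coroot
open Cfsg.Lie Cfsg.Agent.ChevalleyStructure Cfsg.Agent.ChevalleyStructure.Elts
  Cfsg.Agent.ChevalleyStructure.CoxeterGeomTypes
  Cfsg.Agent.ChevalleyStructure.NPerm Cfsg.Agent.ChevalleyStructure.RootVec
open Cfsg.Agent.Nodes Cfsg.Agent.Nodes.RGDChev Cfsg.Agent.KFacts.RgdSL Cfsg.Agent.KFacts.RgdCent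
  Cfsg.Agent.KFacts.RgdTI Cfsg.Agent.KFacts.RgdPar
open Cfsg.Agent.KFacts.RgdChevCoord
open Cfsg.Agent.KFacts.RgdField (Coords Coord)
open Cfsg.Agent.H129.TorusChar (cX isMC_cX cX_vec cX_inj IsMC)
open Cfsg.Agent.H974.Exc (sl_E7 cf cpr_of isRoot_of)

universe u

abbrev cE := CoxeterMatrix.E₇.toCoxeterSystem
abbrev hCE := hp7.isCartan

instance finW : Finite CoxeterMatrix.E₇.Group := finite_W hp7 cE

theorem slE : SL cE hCE := sl_E7 cE

/-- the pairing of two roots -/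
def pr7 (r s : ℕ) : ℤ := cf (cartanOf chevE7 7) (vec chevE7 7 r) (vec chevE7 7 s)

theorem isRoot7 {r : ℕ} (hr : r < 126) : IsRoot cE hCE (vec chevE7 7 r) :=
  isRoot_vec hp7 cE (show r < chevE7.nroots from hr)

theorem cpr7 {r s : ℕ} (hs : s < 126) : cpr cE hCE (vec chevE7 7 r) (vec chevE7 7 s) = pr7 r s :=
  cpr_of hp7 slE _ (isRoot7 hs) rfl

theorem adjE : ∀ r ∈ List.range 126, ∃ s ∈ List.range 126, pr7 r s = 1 := by
  (delta Cfsg.Agent.ChevalleyStructure.CoxeterGeomTypes.cartanOf Cfsg.Agent.R2.E72T.pr7; rewrite [Cfsg.Agent.ChevFast.E7.cartan]; decide +kernel)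

section K

variable {K : Type u} [Field K] [Finite K] [CharP K 2]

theorem RK : RGD cE hCE 2 (TT chevE7 K) (nc hp7 K) (XX chevE7 7 K) := rgd (K := K) hp7 cE 2

theorem CK : Coords cE hCE (TT chevE7 K) (nc hp7 K) (XX chevE7 7 K) (xc hp7) (ch hp7) := coords (K := K) hp7 cE 2

theorem lrK (a : Fin 7 → ℤ) (ha : IsRoot cE hCE a) : LR (RK (K := K)) a := by
  refine lr_all RK slE (fun a ha => ?_) a ha
  obtain ⟨r, hr, rfl⟩ := (isRoot_iff hp7 cE a).1 ha
  obtain ⟨s, hs, h1⟩ := adjE r (List.mem_range.2 hr)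
  exact ⟨vec chevE7 7 s, isRoot7 (List.mem_range.1 hs), by rw [cpr7 (List.mem_range.1 hs)]; exact h1⟩

/-- the subgroup generated by root groups -/
def Rt (K : Type u) [Field K] (L : List ℕ) : Subgroup ↥(chevE7.group K) :=
  Subgroup.closure {g | ∃ r ∈ L, r < 126 ∧ ∃ t : K, (g : GL chevE7.Idx K) = xG hE7 r t}

theorem Sup_le_Rt {S : Set (Fin 7 → ℤ)} {L : List ℕ} (h : ∀ r < 126, vec chevE7 7 r ∈ S → r ∈ L)
    (hS : ∀ a ∈ S, IsRoot cE hCE a) : RGD.Sup (XX chevE7 7 K) S ≤ Rt K L := by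
  refine RGD.Sup_le fun a ha => ?_
  obtain ⟨r, hr, rfl⟩ := (isRoot_iff hp7 cE a).1 (hS a ha)
  intro u hu
  rw [Subgroup.mem_subgroupOf, XV_vec hp7 K hr, mem_rootSubgroup_iff hE7] at hu
  obtain ⟨t, ht⟩ := hu
  exact Subgroup.subset_closure ⟨r, h r hr ha, hr, t, ht⟩

/-- the value of the root `r` on a torus element -/
noncomputable abbrev rv (t : ↥(chevE7.group K)) (r : ℕ) : K := cX hp7 t (vec chevE7 7 r)

theorem rv_act {t : ↥(chevE7.group K)} (ht : t ∈ TT chevE7 K) {r : ℕ} (hr : r < 126) (a : K) :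
    (t : GL chevE7.Idx K) * xG hE7 r a * (t : GL chevE7.Idx K)⁻¹ = xG hE7 r (rv t r * a) := by
  have h1 := congrArg Subtype.val ((act hp7 (show r < chevE7.nroots from hr) ht).2 a)
  rw [Subgroup.coe_mul, Subgroup.coe_mul, Subgroup.coe_inv, coe_xc hp7 (show r < chevE7.nroots from hr),
    coe_xc hp7 (show r < chevE7.nroots from hr)] at h1
  rw [rv, cX_vec hp7 ht (show r < chevE7.nroots from hr)]
  exact h1

theorem rv_eq_one {t : ↥(chevE7.group K)} (ht : t ∈ TT chevE7 K) {r : ℕ} (hr : r < 126)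
    (h : (t : GL chevE7.Idx K) * xG hE7 r (1 : K) = xG hE7 r (1 : K) * (t : GL chevE7.Idx K)) : rv t r = 1 := by
  have h1 := rv_act ht hr 1
  rw [mul_inv_eq_iff_eq_mul.2 h, mul_one] at h1
  exact (xG_injective hE7 (show r < chevE7.nroots from hr) h1).symm

/-- **Elements commuting with root elements.** -/
theorem cent_one {L M : List ℕ} (hL : ∀ r ∈ L, r < 126) (hneg : ∀ r ∈ L, chevE7.neg r ∈ L)
    (hM : ∀ b < 126, (∀ r ∈ L, 0 ≤ pr7 b r) → b ∈ M) {g : ↥(chevE7.group K)}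
    (hg : ∀ r ∈ L, (g : GL chevE7.Idx K) * xG hE7 r (1 : K) = xG hE7 r (1 : K) * (g : GL chevE7.Idx K)) :
    ∃ t ∈ TT chevE7 K, (∀ r ∈ L, rv t r = 1) ∧ ∃ q ∈ Rt K M, g = t * q := by
  classical
  let Ψ : Set (Fin 7 → ℤ) := {a | ∃ r ∈ L, vec chevE7 7 r = a}
  have hΨ : ∀ a ∈ Ψ, IsRoot cE hCE a := by
    rintro a ⟨r, hr, rfl⟩
    exact isRoot7 (hL r hr)
  have hgG : g ∈ GG cE hCE (TT chevE7 K) (XX chevE7 7 K) := by
    rw [Cfsg.Agent.BpExc.TorChev.GG_top hp7 cE]; exact Subgroup.mem_top g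
  let F : List ((Fin 7 → ℤ) →+ ℤ) := L.map fun r => if ha : IsRoot cE hCE (vec chevE7 7 r) then ell cE hCE ha else 0
  have hz : ∀ r ∈ L, xc hp7 (vec chevE7 7 r) (1 : K) ∈ XX chevE7 7 K (vec chevE7 7 r) := fun r hr =>
    ((CK.coord _ (isRoot7 (hL r hr))).mem _).2 ⟨1, rfl⟩
  have hz1 : ∀ r ∈ L, xc hp7 (vec chevE7 7 r) (1 : K) ≠ 1 := by
    intro r hr h0
    have h1 := congrArg Subtype.val h0
    rw [coe_xc hp7 (show r < chevE7.nroots from hL r hr)] at h1
    exact one_ne_zero ((xG_eq_one_iff hE7 (show r < chevE7.nroots from hL r hr) _).1 h1)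
  have hgz : ∀ r ∈ L, g * xc hp7 (vec chevE7 7 r) (1 : K) = xc hp7 (vec chevE7 7 r) (1 : K) * g := by
    intro r hr
    apply Subtype.ext
    rw [Subgroup.coe_mul, Subgroup.coe_mul, coe_xc hp7 (show r < chevE7.nroots from hL r hr)]
    exact hg r hr
  have h1 := inter (RK (K := K)) F hgG (by
    intro f hf
    rw [List.mem_map] at hf
    obtain ⟨r, hr, rfl⟩ := hf
    rw [dif_pos (isRoot7 (hL r hr)), half_ell]
    exact (lrK _ (isRoot7 (hL r hr))).le_PS_of_comm hgG (hz r hr) (hz1 r hr) (hgz r hr))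
  have hs1 : {x | IsRoot cE hCE x ∧ ∀ f ∈ F, 0 ≤ f x} ⊆ Star cE hCE Ψ := by
    rintro x ⟨hx1, hx2⟩
    refine ⟨hx1, ?_⟩
    rintro a ⟨r, hr, rfl⟩
    exact hx2 (ell cE hCE (isRoot7 (hL r hr))) (by
      rw [List.mem_map]
      exact ⟨r, hr, by rw [dif_pos (isRoot7 (hL r hr))]⟩)
  have h2 : g ∈ ((PS (TT chevE7 K) (XX chevE7 7 K) (Star cE hCE Ψ) : Subgroup ↥(chevE7.group K)) :
    Set ↥(chevE7.group K)) := PS_mono hs1 h1.1
  have hT : TT chevE7 K ≤ Subgroup.normalizer (RGD.Sup (XX chevE7 7 K) (Star cE hCE Ψ) : Set ↥(chevE7.group K)) :=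
    (RK (K := K)).T_le_normalizer fun x hx => hx.1
  unfold PS at h2
  rw [Subgroup.coe_mul_of_left_le_normalizer_right _ _ hT, Set.mem_mul] at h2
  obtain ⟨t, ht, q, hq, rfl⟩ := h2
  refine ⟨t, ht, fun r hr => ?_, q, Sup_le_Rt (fun b hb hbs => hM b hb fun r hr => ?_) (fun a ha => ha.1) hq, rfl⟩
  · have hqz : q * xc hp7 (vec chevE7 7 r) (1 : K) = xc hp7 (vec chevE7 7 r) (1 : K) * q := by
      have h4 : RGD.Sup (XX chevE7 7 K) (Star cE hCE Ψ) ≤
          Subgroup.centralizer (XX chevE7 7 K (vec chevE7 7 r) : Set ↥(chevE7.group K)) := by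
        refine RGD.Sup_le fun b hb => ?_
        intro u hu
        rw [Subgroup.mem_centralizer_iff]
        intro v hv
        exact ((lrK _ (isRoot7 (hL r hr))).comm b hb.1 (hb.2 _ ⟨r, hr, rfl⟩) u hu v hv).symm
      exact ((Subgroup.mem_centralizer_iff.1 (h4 hq)) _ (hz r hr)).symm
    have h5 := hgz r hr
    have h6 : t * xc hp7 (vec chevE7 7 r) (1 : K) * q = xc hp7 (vec chevE7 7 r) (1 : K) * t * q := by
      rw [mul_assoc, ← hqz, ← mul_assoc, h5, mul_assoc]
    have h7 := congrArg Subtype.val (mul_right_cancel h6)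
    rw [Subgroup.coe_mul, Subgroup.coe_mul, coe_xc hp7 (show r < chevE7.nroots from hL r hr)] at h7
    exact rv_eq_one ht (hL r hr) h7
  · have := hbs.2 _ ⟨r, hr, rfl⟩
    rwa [cpr7 (hL r hr)] at this

end K

end Cfsg.Agent.R2.E72T
end

-- part: R2/E72T/TorTab
section
/-!
# Tables for the simple reflections of `E₇` (S5934, box T)
-/

set_option autoImplicit false

namespace Cfsg.Agent.R2.E72T

open Cfsg.Lie

theorem refl_neg7 : ∀ j < 7, ∀ r < 126, chevE7.reflectRoot j (chevE7.neg r) = chevE7.neg (chevE7.reflectRoot j r) := by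
  (delta Cfsg.Lie.ChevalleyDatum.chainRoot Cfsg.Lie.ChevalleyDatum.reflectRoot; rewrite [Cfsg.Agent.ChevFast.E7.cartan, Cfsg.Agent.ChevFast.E7.chainEntry, Cfsg.Agent.ChevFast.E7.neg]; open scoped Cfsg.Agent.ChevFast.Lin in decide +kernel)

theorem refl_lt7 : ∀ j < 7, ∀ r < 126, chevE7.reflectRoot j r < 126 := by
  (delta Cfsg.Lie.ChevalleyDatum.chainRoot Cfsg.Lie.ChevalleyDatum.reflectRoot; rewrite [Cfsg.Agent.ChevFast.E7.cartan, Cfsg.Agent.ChevFast.E7.chainEntry, Cfsg.Agent.ChevFast.E7.neg]; open scoped Cfsg.Agent.ChevFast.Lin in decide +kernel)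

theorem refl_refl7 : ∀ j < 7, ∀ r < 126, chevE7.reflectRoot j (chevE7.reflectRoot j r) = r := by
  (delta Cfsg.Lie.ChevalleyDatum.chainRoot Cfsg.Lie.ChevalleyDatum.reflectRoot; rewrite [Cfsg.Agent.ChevFast.E7.cartan, Cfsg.Agent.ChevFast.E7.chainEntry, Cfsg.Agent.ChevFast.E7.neg]; decide +kernel)

end Cfsg.Agent.R2.E72T
end

-- part: R2/E72T/Tor
section
/-!
# Torus elements of `E₇(K)`, `K` finite of characteristic 2 (S5934, box T)

`hG_conj7` : `h_r(a)` multiplies the coordinate of `x_s` by `a ^ ⟨s, r⟩`, for all roots `r`, `s`.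
-/

set_option autoImplicit false
set_option linter.unusedSectionVars false

namespace Cfsg.Agent.R2.E72T

open CoxeterSystem Cfsg.Agent.ChevalleyStructure.CoxeterGeom Cfsg.Agent.Tits.Roots Cfsg.Agent.Tits.Core
  Cfsg.Agent.Nodes.Reps Cfsg.Agent.Nodes.BNOf Cfsg.Agent.Nodes.Coroot
open Cfsg.Lie Cfsg.Agent.ChevalleyStructure Cfsg.Agent.ChevalleyStructure.Elts
  Cfsg.Agent.ChevalleyStructure.CoxeterGeomTypes
open Cfsg.Agent.Nodes.RGDFoldSL Cfsg.Agent.Nodes.RGDChev
open Cfsg.Agent.KFacts.RgdChevCoord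
open Cfsg.Agent.KFacts.RgdField (Coords Coord)
open Cfsg.Agent.H129.TorusChar (cX isMC_cX cX_vec cX_inj IsMC)
open Cfsg.Agent.H420.PG
open Cfsg.Agent.ChevalleyStructure.BruhatSplit (hG_simple_conj)
open Cfsg.Agent.ChevalleyStructure.NPerm (simple_lt)
open scoped MatrixGroups

universe u

section K

variable {K : Type u} [Field K] [Finite K] [CharP K 2]

/-- a property of roots closed under the reflections -/
theorem root_induction {p : ℕ → Prop} (h0 : ∀ i : Fin 7, p (chevE7.simple i))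
    (h1 : ∀ j : Fin 7, ∀ r < 126, p r → p (chevE7.reflectRoot j r)) {r : ℕ} (hr : r < 126) : p r := by
  obtain ⟨w, i, hw⟩ := isRoot7 hr
  obtain ⟨ω, rfl⟩ := cE.wordProd_surjective w
  induction ω generalizing r with
  | nil =>
    rw [wordProd_nil, map_one, Module.End.one_apply, ← vec_simple hp7 i] at hw
    have h2 := vec_inj hp7 (show r < chevE7.nroots from hr) (simple_lt hp7.inList (lt_rank hp7 i)) hw
    rw [h2]
    exact h0 i
  | cons j ω ih =>
    have h2 : vec chevE7 7 (chevE7.reflectRoot j r) = rep cE hCE (cE.wordProd ω) (sr i) := by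
      rw [← rep_vec hp7 cE j (show r < chevE7.nroots from hr), hw, wordProd_cons, rep_mul_apply]
      rw [← rep_mul_apply, simple_mul_simple_self, map_one, Module.End.one_apply]
    have h3 := h1 j _ (refl_lt7 j j.2 r hr) (ih (refl_lt7 j j.2 r hr) h2)
    rwa [refl_refl7 j j.2 r hr] at h3

theorem pr7_refl (j : Fin 7) {r s : ℕ} (hr : r < 126) (hs : s < 126) :
    pr7 (chevE7.reflectRoot j s) r = pr7 s (chevE7.reflectRoot j r) := by
  rw [← cpr7 hr, ← cpr7 (refl_lt7 j j.2 r hr), ← rep_vec hp7 cE j (show s < chevE7.nroots from hs),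
    ← rep_vec hp7 cE j (show r < chevE7.nroots from hr)]
  have h1 := cpr_rep cE hCE (cE.simple j) (rep cE hCE (cE.simple j) (vec chevE7 7 s)) (isRoot7 hr)
  rw [← h1, ← rep_mul_apply, simple_mul_simple_self, map_one, Module.End.one_apply]

theorem nG_conj_hG (j : Fin 7) {r : ℕ} (hr : r < 126) (a : K) :
    nG hE7 (chevE7.simple j) 1 * hG hE7 r a * (nG hE7 (chevE7.simple j) 1)⁻¹ = hG hE7 (chevE7.reflectRoot j r) a := by
  have hj : (j : ℕ) < chevE7.rank := lt_rank hp7 j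
  have h1 := tsig_psi (F := K) (φ := RingHom.id K)
    (σ := (MulAut.conj (nG hE7 (chevE7.simple j) (1 : K))).toMonoidHom)
    (ρ := chevE7.reflectRoot j) hE7 (show r < chevE7.nroots from hr)
    (refl_lt7 j j.2 r hr) (refl_neg7 j j.2 r hr).symm
    (fun t => nG_conj_two hE7 hj (show r < chevE7.nroots from hr) t)
    (fun t => nG_conj_two hE7 hj (show chevE7.neg r < chevE7.nroots from neg_lt7 hr) t) (hS a)
  rw [map_hS, RingHom.id_apply, psi_hS hE7 (show r < chevE7.nroots from hr),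
    psi_hS hE7 (show chevE7.reflectRoot j r < chevE7.nroots from refl_lt7 j j.2 r hr)] at h1
  exact h1

/-- **The action of `h_r(a)`.** -/
theorem hG_conj7 {r : ℕ} (hr : r < 126) {a : K} (ha : a ≠ 0) : ∀ s < 126, ∀ t : K,
    hG hE7 r a * xG hE7 s t * (hG hE7 r a)⁻¹ = xG hE7 s (a ^ pr7 s r * t) := by
  refine root_induction (p := fun r => ∀ s < 126, ∀ t : K,
    hG hE7 r a * xG hE7 s t * (hG hE7 r a)⁻¹ = xG hE7 s (a ^ pr7 s r * t)) (fun i s hs t => ?_)
    (fun j r hr ih s hs t => ?_) hr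
  · rw [hG_simple_conj hE7 (lt_rank hp7 i) (show s < chevE7.nroots from hs) ha]
    congr 3
    have h1 := cpr7 (r := s) (simple_lt hp7.inList (lt_rank hp7 i))
    rw [← h1, vec_simple hp7, cpr_sr, pairing_vec hp7 i (show s < chevE7.nroots from hs)]
  · rw [← nG_conj_hG j hr, ← pr7_refl j hr hs]
    have hj : (j : ℕ) < chevE7.rank := lt_rank hp7 j
    have h1 := ih (chevE7.reflectRoot j s) (refl_lt7 j j.2 s hs) t
    have h2 := nG_conj_two (F := K) hE7 hj (show chevE7.reflectRoot j s < chevE7.nroots from refl_lt7 j j.2 s hs) t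
    have h3 := nG_conj_two (F := K) hE7 hj (show chevE7.reflectRoot j s < chevE7.nroots from refl_lt7 j j.2 s hs)
      (a ^ pr7 (chevE7.reflectRoot j s) r * t)
    rw [refl_refl7 j j.2 s hs] at h2 h3
    rw [← h3, ← h1, ← h2]
    group

end K

end Cfsg.Agent.R2.E72T
end

private theorem dce_cc0539bc4dcf : _root_.True := by
  try have : _root_.True := by simp only [_root_.Cfsg.Agent.R2.E72T.rv.eq_1]
  exact _root_.True.intro
end

-- part: R2/E72T/Wz
section
prune_inst 0x1044003022000008040010220020c1600001000000400031e40d420907300380400000ead00c0281c41cb4784ac02000440149420800002a00be00411e04a1848d28e0a43c1e001b000740f003580c00000000000000000000000000041000200000000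
set_option linter.all false
open scoped Cfsg.Agent.FastGrp

/-!
# The longest element of `W(E₇)` (S5934, box T)
-/

set_option autoImplicit false

namespace Cfsg.Agent.R2.E72T

open Cfsg.Lie

/-- a word of the longest element -/
def wz : List ℕ := [0, 1, 2, 0, 3, 1, 2, 0, 3, 2, 4, 3, 1, 2, 0, 3, 2, 4, 3, 1, 5, 4, 3, 1, 2, 0, 3, 2, 4, 3, 1, 5, 4, 3,
  2, 0, 6, 5, 4, 3, 1, 2, 0, 3, 2, 4, 3, 1, 5, 4, 3, 2, 0, 6, 5, 4, 3, 1, 2, 3, 4, 5, 6]

theorem wz_lt : ∀ i ∈ wz, i < chevE7.rank := by decide +kernel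

open Cfsg.Agent.ChevalleyStructure.W0Core Cfsg.Agent.ChevalleyStructure.W0E7 in
private theorem foldr_tab (w : List ℕ) (hw : ∀ i ∈ w, i < 7) (s : ℕ) (hs : s < 126) :
    w.foldr chevE7.reflectRoot s = actT tabE7 w s ∧ actT tabE7 w s < 126 := by
  induction w with
  | nil => exact ⟨rfl, hs⟩
  | cons i w ih =>
    obtain ⟨h1, h2⟩ := ih fun j hj => hw j (List.mem_cons_of_mem _ hj)
    have hi := hw i List.mem_cons_self
    refine ⟨?_, rangeOK_spec (rangeE7 i hi) h2⟩
    rw [List.foldr_cons, h1]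
    exact tabE7_ok i hi _ (Nat.lt_of_lt_of_eq h2 (by decide +kernel))

private noncomputable def _root_.Cfsg.Agent.LsF.f75ed43_0 : {f // @Cfsg.Agent.ChevalleyStructure.W0Core.look = f} := ⟨_, by first | (delta Cfsg.Agent.ChevalleyStructure.W0Core.look; rewrite [Cfsg.Agent.LsF.nmul_pat, Cfsg.Agent.LsF.nmod_pat, Cfsg.Agent.LsF.nshr_pat]; exact rfl) | exact rfl⟩
private noncomputable def _root_.Cfsg.Agent.LsF.f75ed43_1 : {f // @Cfsg.Agent.ChevalleyStructure.W0Core.actT = f} := ⟨_, by first | (delta Cfsg.Agent.ChevalleyStructure.W0Core.actT; rewrite [Cfsg.Agent.LsF.f75ed43_0.2, Cfsg.Agent.LsF.foldr_eq]; exact rfl) | exact rfl⟩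
private noncomputable def _root_.Cfsg.Agent.LsF.f75ed43_2 : {f // @Cfsg.Agent.ChevalleyStructure.W0E7.tabE7 = f} := ⟨_, by first | (delta Cfsg.Agent.ChevalleyStructure.W0E7.tabE7; (try delta Cfsg.Agent.ChevalleyStructure.W0E7.tabE7.match_1); (try rewrite [Cfsg.Agent.LsF.instDecEq_eq, Cfsg.Agent.LsF.dite_eq]); exact rfl) | exact rfl⟩
private noncomputable def _root_.Cfsg.Agent.LsF.f75ed43_3 : {f // @Cfsg.Lie.ChevalleyDatum.neg = f} := ⟨_, by first | (delta Cfsg.Lie.ChevalleyDatum.neg; rewrite [Cfsg.Agent.LsF.agetD_eq]; exact rfl) | exact rfl⟩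
open Cfsg.Agent.ChevalleyStructure.W0Core Cfsg.Agent.ChevalleyStructure.W0E7 in
theorem wz_neg : ∀ s < 126, wz.foldr chevE7.reflectRoot s = chevE7.neg s := fun s hs =>
  (foldr_tab wz wz_lt s hs).1.trans ((by (refine of_decide_eq_true ?_; (try (rewrite [Cfsg.Agent.LsF.f75ed43_1.2, Cfsg.Agent.LsF.f75ed43_2.2, Cfsg.Agent.LsF.f75ed43_3.2, Cfsg.Agent.LsF.instDecEq_eq, Cfsg.Agent.LsF.dBallLT_eq, Cfsg.Agent.LsF.decide_eq])); decide +kernel) : ∀ s < 126, actT tabE7 wz s = chevE7.neg s) s hs)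

theorem neg_neg7 : ∀ s < 126, chevE7.neg (chevE7.neg s) = s ∧ chevE7.neg s < 126 := by (refine of_decide_eq_true ?_; (try (rewrite [Cfsg.Agent.LsF.f75ed43_3.2, Cfsg.Agent.LsF.instDecEq_eq, Cfsg.Agent.LsF.decLt_eq, Cfsg.Agent.LsF.dAnd_eq, Cfsg.Agent.LsF.dBallLT_eq, Cfsg.Agent.LsF.decide_eq])); decide +kernel)

theorem wz_pow : ∀ s < 126, (fun s => wz.foldr chevE7.reflectRoot s)^[2] s = s := by
  intro s hs
  rw [Function.iterate_succ_apply, Function.iterate_one, wz_neg s hs, wz_neg _ (neg_neg7 s hs).2, (neg_neg7 s hs).1]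

end Cfsg.Agent.R2.E72T
end

-- part: R2/E72T/Pair
section
set_option linter.all false
open scoped Cfsg.Agent.FastGrp

/-!
# The pair homomorphism `g ↦ ψ_a(g) ψ_b(g^(2))` (S5934, box T)
-/

set_option autoImplicit false
set_option linter.unusedSectionVars false

namespace Cfsg.Agent.R2.E72T

open Cfsg.Lie Cfsg.Agent.ChevalleyStructure Cfsg.Agent.ChevalleyStructure.Elts
open Cfsg.Agent.ChevalleyStructure.StBasic
open Cfsg.Agent.ChevalleyStructure.SL2Hom (up lo mem_closure_SL2)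
open Cfsg.Agent.Nodes.RGDFoldSL
open Cfsg.Agent.H420.PG
open scoped MatrixGroups

universe u

section

variable {D : ChevalleyDatum} (hD : InList D) {K : Type u} [Field K] [CharP K 2]

/-- the Frobenius map -/
noncomputable abbrev fr2 (K : Type u) [Field K] [CharP K 2] : K →+* K := iterateFrobenius K 2 1

theorem fr2_apply (a : K) : fr2 K a = a ^ 2 := by
  rw [fr2, iterateFrobenius_def, pow_one]

theorem lt_of_okP {D : ChevalleyDatum} {a b : ℕ} (h : okP D a b = true) : a < D.nroots ∧ b < D.nroots := by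
  unfold okP at h
  rw [Bool.and_eq_true] at h
  exact lt_of_okB h.1

/-- the pair homomorphism -/
noncomputable def pp {a b : ℕ} (h : okP D a b = true) : SL(2, K) →* GL D.Idx K where
  toFun g := psi hD K a g * psi hD K b (Matrix.SpecialLinearGroup.map (fr2 K) g)
  map_one' := by rw [map_one, map_one, map_one, mul_one]
  map_mul' g g' := by
    have h1 := psi_comm_psi (F := K) hD h g' (Matrix.SpecialLinearGroup.map (fr2 K) g)
    rw [map_mul, map_mul, map_mul]
    calc _ = psi hD K a g * (psi hD K a g' * psi hD K b (Matrix.SpecialLinearGroup.map (fr2 K) g)) *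
          psi hD K b (Matrix.SpecialLinearGroup.map (fr2 K) g') := by group
      _ = _ := by rw [h1.eq]; group

variable {hD} {a b : ℕ} (h : okP D a b = true)

theorem pp_up (t : K) : pp hD h (up t) = xG hD a t * xG hD b (t ^ 2) := by
  have hl := lt_of_okP h
  show psi hD K a (up t) * psi hD K b (Matrix.SpecialLinearGroup.map (fr2 K) (up t)) = _
  rw [map_up, psi_up hD hl.1, psi_up hD hl.2, fr2_apply]

theorem pp_lo (t : K) : pp hD h (lo t) = xG hD (D.neg a) t * xG hD (D.neg b) (t ^ 2) := by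
  have hl := lt_of_okP h
  show psi hD K a (lo t) * psi hD K b (Matrix.SpecialLinearGroup.map (fr2 K) (lo t)) = _
  rw [map_lo, psi_lo hD hl.1, psi_lo hD hl.2, fr2_apply]

theorem pp_hS (t : K) : pp hD h (hS t) = hG hD a t * hG hD b (t ^ 2) := by
  have hl := lt_of_okP h
  show psi hD K a (hS t) * psi hD K b (Matrix.SpecialLinearGroup.map (fr2 K) (hS t)) = _
  rw [map_hS, psi_hS hD hl.1, psi_hS hD hl.2, fr2_apply]

end

section St

variable {D₀ : ChevalleyDatum} {K : Type u} [Field K]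

/-- `x_a(t) x_b(t²)` -/
noncomputable def uab (D₀ : ChevalleyDatum) (a b : ℕ) (t : K) : D₀.SteinbergGroup K := wd D₀ [(a, t), (b, t ^ 2)]

/-- the torus element in the Steinberg group -/
noncomputable def hab (D₀ : ChevalleyDatum) (a b a' b' : ℕ) (t : K) : D₀.SteinbergGroup K :=
  uab D₀ a b t * (uab D₀ a' b' (-t⁻¹) * uab D₀ a b t) *
    (uab D₀ a b (-1) * (uab D₀ a' b' (-(-1)⁻¹) * uab D₀ a b (-1)))

theorem uab_eq (a b : ℕ) (t : K) : uab D₀ a b t = D₀.stGen K a t * D₀.stGen K b (t ^ 2) := by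
  rw [uab, wd_cons, wd_singleton]

variable [CharP K 2] {D : ChevalleyDatum} {hD : InList D} {Ξ : D₀.SteinbergGroup K →* GL D.Idx K}
  {a b a' b' c d : ℕ}

theorem map_hab (h : okP D c d = true) (ha : ∀ t, Ξ (D₀.stGen K a t) = xG hD c t)
    (hb : ∀ t, Ξ (D₀.stGen K b t) = xG hD d t) (ha' : ∀ t, Ξ (D₀.stGen K a' t) = xG hD (D.neg c) t)
    (hb' : ∀ t, Ξ (D₀.stGen K b' t) = xG hD (D.neg d) t) (t : K) :
    Ξ (hab D₀ a b a' b' t) = hG hD c t * hG hD d (t ^ 2) := by
  have e1 : ∀ t, Ξ (uab D₀ a b t) = pp hD h (up t) := by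
    intro t
    rw [pp_up, uab_eq, map_mul, ha, hb]
  have e2 : ∀ t, Ξ (uab D₀ a' b' t) = pp hD h (lo t) := by
    intro t
    rw [pp_lo, uab_eq, map_mul, ha', hb']
  rw [← pp_hS h, hab, map_mul, map_mul, map_mul, map_mul, map_mul, e1, e1, e2, e2, ← map_mul, ← map_mul, ← map_mul,
    ← map_mul, ← map_mul]
  rfl

end St

end Cfsg.Agent.R2.E72T

private theorem dce_3386fa66df39 : _root_.True := by
  try have : _root_.True := by simp only [_root_.Cfsg.Agent.R2.E72T.uab.eq_1]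
  try have : _root_.True := by simp only [_root_.Cfsg.Agent.R2.E72T.hab.eq_1]
  try have : _root_.True := by simp only [_root_.Cfsg.Agent.R2.E72T.fr2.eq_1]
  try have : _root_.True := by simp only [_root_.Cfsg.Agent.R2.E72T.fr2.congr_simp]
  exact _root_.True.intro
end

-- part: R2/E72T/Cyc_mg
section

end

-- part: R2/H27S/ESeven
section
prune_inst 0x300000000000001000000000200000000040000031a0010209071002800000004a1008000000008000000000000000000000000000000400400000208081000020100c00120007007002400000000000000000000000000000041000000000000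
set_option linter.all false
open scoped Cfsg.Agent.FastGrp

-- part: R2/H27S/Gen
section
/-!
# Groups generated by the root groups of a subsystem, trivial torus (S5934, box S)

* `perfect`, `isSimple`, `card_G` : a group with a simply laced root group datum with trivial torus;
* `HS` : the group of a subsystem, `rgd_HS` : its root group datum.
-/

set_option autoImplicit false
set_option linter.unusedSectionVars false
set_option linter.dupNamespace false

namespace Cfsg.Agent.R2.H27S.Gen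

open CoxeterSystem Cfsg.Agent.ChevalleyStructure.CoxeterGeom Cfsg.Agent.Tits.Roots Cfsg.Agent.Tits.Core
  Cfsg.Agent.Tits.RootComb Cfsg.Agent.Tits.Exchange Cfsg.Agent.Nodes.Comb Cfsg.Agent.Nodes.Reps
  Cfsg.Agent.Nodes.BNOf Cfsg.Agent.Nodes.StabComb Cfsg.Agent.Nodes.Bruhat Cfsg.Agent.Nodes.OppDec
  Cfsg.Agent.Nodes.LeviDec Cfsg.Agent.Nodes.SubComb Cfsg.Agent.Nodes.Coroot Cfsg.Agent.Nodes.RGDLib
  Cfsg.Agent.Nodes.Sub Cfsg.Agent.KFacts.RgdSL
open scoped commutatorElement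

section Whole

variable {I W Y : Type*} [Fintype I] [DecidableEq I] [Group W] [Group Y] {M : CoxeterMatrix I}
  {cs : CoxeterSystem M W} {A : I → I → ℤ} {h : IsCartan M A} {p : ℕ} {T : Subgroup Y} {n : I → Y}
  {X : (I → ℤ) → Subgroup Y}

variable [Finite W] (R : RGD cs h p T n X)

include R

theorem perfect (hG : G1 cs h X = ⊤) (hs : SL cs h) (hadj : ∀ i, ∃ j, A j i = -1) : commutator Y = ⊤ := by
  rw [eq_top_iff, ← hG]
  refine RGD.Sup_le fun x hx => ?_
  obtain ⟨w, i, rfl⟩ := hx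
  obtain ⟨j, hj⟩ := hadj i
  have hi := isRoot_sr cs h i
  have hjr := isRoot_sr cs h j
  have h1 : cpr cs h (sr i) (sr j) = -1 := by rw [cpr_sr, sr, pairing_single, hj, mul_one]
  have h2 : IsRoot cs h (sr i + sr j) := isRoot_add hi hjr h1
  have h3 : cpr cs h (sr i + sr j) (-sr j) = -1 := by
    rw [cpr_neg_right cs h _ hjr, cpr_add cs h _ _ hjr, h1, cpr_self cs h hjr]; norm_num
  have h4 : cpr cs h (rep cs h w (sr i + sr j)) (rep cs h w (-sr j)) = -1 := by
    rw [cpr_rep cs h w _ hjr.neg, h3]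
  have hA := hs.a2 (h2.act w) (hjr.neg.act w) h4
  have e : rep cs h w (sr i + sr j) + rep cs h w (-sr j) = rep cs h w (sr i) := by
    rw [← map_add]; congr 1; abel
  intro g hg
  rw [← e] at hg
  obtain ⟨⟨u, hu⟩, hu1⟩ := (Subgroup.ne_bot_iff_exists_ne_one).1 (X_ne_bot R (h2.act w))
  obtain ⟨v, hv, rfl⟩ := hA.comm_surj R hu (fun h0 => hu1 (Subtype.ext h0)) hg
  rw [commutator_def]
  exact Subgroup.commutator_mem_commutator (Subgroup.mem_top _) (Subgroup.mem_top _)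

/-- A group generated by the root groups of an irreducible datum with trivial torus is simple if it is perfect. -/
theorem isSimple [Finite Y] [Nonempty I] [Fact p.Prime] (hG : G1 cs h X = ⊤)
    (hconn : ∀ J : Set I, J.Nonempty → J ≠ Set.univ → ∃ a ∈ J, ∃ b, b ∉ J ∧ M a b ≠ 2)
    (hT : T = ⊥) (hperf : commutator Y = ⊤) : IsSimpleGroup Y := by
  have hgen := rgd_gen_of_G1 R hG
  have hsol : Group.IsSolvable T := by
    subst hT
    infer_instance
  have hnt : Nontrivial Y := by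
    obtain ⟨i⟩ := (inferInstance : Nonempty I)
    obtain ⟨u, -, hu1⟩ := exists_ne_one R i
    exact ⟨⟨u, 1, hu1⟩⟩
  refine ⟨fun H hH => ?_⟩
  rcases Cfsg.Agent.UGT.U2.FOne.QsRGD.eq_top_or_le_B (R.bnPair hgen) (R.bnPair_irreducible hgen hconn)
      (Cfsg.Agent.FixBN.FieldRGD.isSolvable_B R hsol) hperf H with h1 | h1
  · exact Or.inr h1
  · left
    have hTH : H ≤ T := by
      obtain ⟨k, hk⟩ := exists_rp cs R.nsys (w0 cs)
      have h2 : H ≤ BN cs h T X := by
        rw [← cj_B R hk]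
        intro x hx
        have h2 : k⁻¹ * x * k ∈ H := by
          have := hH.conj_mem x hx k⁻¹
          rwa [inv_inv] at this
        have h3 : k * (k⁻¹ * x * k) * k⁻¹ ∈ cj k (RGD.B cs h T X) := conj_mem_cj.2 (h1 h2)
        have h4 : k * (k⁻¹ * x * k) * k⁻¹ = x := by group
        rwa [h4] at h3
      exact (le_inf h1 h2).trans (B_inf_BN R).le
    rw [hT] at hTH
    exact le_bot_iff.1 hTH

theorem closed_pos {s : Finset (I → ℤ)} (hs : (s : Set (I → ℤ)) = RGD.Pos cs h) :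
    Cfsg.Agent.Nodes.Unique.Closed cs h (s : Set (I → ℤ)) := by
  rw [hs]
  intro x hx y hy z hz
  exact ⟨hz.1, btwn_nonneg hz hx.2 hy.2⟩

theorem card_U [Finite Y] {q : ℕ} (hX : ∀ i, Nat.card (X (sr i)) = q) :
    Nat.card (RGD.Sup X (RGD.Pos cs h)) = q ^ (RGD.Pos cs h).ncard := by
  classical
  have hfin : (RGD.Pos cs h).Finite := (RGD.finite_roots (cs := cs) (h := h)).subset fun x hx => hx.1
  have h1 := Cfsg.Agent.Nodes.CardSup.card_sup R (s := hfin.toFinset) (by rw [hfin.coe_toFinset])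
    (closed_pos R hfin.coe_toFinset)
  rw [hfin.coe_toFinset] at h1
  rw [h1, Finset.prod_congr rfl (g := fun _ => q), Finset.prod_const, Set.ncard_eq_toFinset_card _ hfin]
  intro x hx
  obtain ⟨w, i, rfl⟩ := ((hfin.mem_toFinset).1 hx).1
  rw [Cfsg.Agent.Nodes.CardSup.card_X_rep R w (isRoot_sr cs h i), hX]

theorem card_B [Finite Y] {q : ℕ} (hX : ∀ i, Nat.card (X (sr i)) = q) :
    Nat.card (RGD.B cs h T X) = Nat.card T * q ^ (RGD.Pos cs h).ncard := by
  rw [← card_U R hX, mul_comm]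
  refine Cfsg.Agent.Nodes.CardSup.card_mul_of_disjoint (A := RGD.Sup X (RGD.Pos cs h)) (B := T)
    RGD.U_le_B RGD.T_le_B (fun g hg => ?_) ?_
  · obtain ⟨t, ht, u, hu, rfl⟩ := R.mem_B.1 hg
    refine ⟨t * u * t⁻¹, (Subgroup.mem_normalizer_iff.1 (R.T_le_normalizer_U ht) u).1 hu, t, ht, by group⟩
  · exact U_inf_T R

theorem card_G [Finite Y] [Fintype W] (hG : GG cs h T X = ⊤) {q : ℕ} (hX : ∀ i, Nat.card (X (sr i)) = q) :
    Nat.card Y = Nat.card T * q ^ (RGD.Pos cs h).ncard * ∑ w : W, q ^ cs.length w := by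
  rw [← card_B R hX]
  have h1 := Cfsg.Agent.H589.FF.card_Y R hG hX
  exact_mod_cast h1

/-- the order, through the order of `P_I` -/
theorem card_G' (hG : GG cs h T X = ⊤) : Nat.card Y = Nat.card ↥(PJ cs h T X Set.univ) := by
  have h1 : PJ cs h T X Set.univ = ⊤ := by
    rw [eq_top_iff, ← hG, ← LJ_univ]
    exact LJ_le_PJ
  rw [h1, Subgroup.card_top]

theorem card_PJ_empty : Nat.card ↥(PJ cs h T X ∅) = Nat.card (RGD.B cs h T X) := by
  have h1 : PJ cs h T X ∅ = RGD.B cs h T X := by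
    apply le_antisymm
    · refine sup_le (sup_le RGD.T_le_B (RGD.Sup_le fun x hx => ?_)) (VJ_le_B _)
      exfalso
      exact hx.1.ne_zero (funext fun k => hx.2 k (Set.notMem_empty k))
    · exact B_le_PJ
  rw [h1]

end Whole

end Cfsg.Agent.R2.H27S.Gen
end

-- part: R2/H27S/SubG
section
/-!
# The group of a subsystem (S5934, box S)

* `cpr_iota`, `sl_sub` : Cartan numbers of a subsystem;
* `hint_of_SL` : the commutator relations of a simply laced datum are integral;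
* `HS` : the group generated by `T₀` and the root groups of a subsystem; `rgd_HS`, `G1_HS`, `GG_HS`;
* `simple_HS`, `card_HS`.
-/

set_option autoImplicit false
set_option linter.unusedSectionVars false
set_option linter.dupNamespace false

namespace Cfsg.Agent.R2.H27S.SubG

open CoxeterSystem Cfsg.Agent.ChevalleyStructure.CoxeterGeom Cfsg.Agent.Tits.Roots Cfsg.Agent.Tits.Core
  Cfsg.Agent.Tits.RootComb Cfsg.Agent.Tits.Exchange Cfsg.Agent.Nodes.Comb Cfsg.Agent.Nodes.Reps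
  Cfsg.Agent.Nodes.BNOf Cfsg.Agent.Nodes.StabComb Cfsg.Agent.Nodes.Bruhat Cfsg.Agent.Nodes.OppDec
  Cfsg.Agent.Nodes.LeviDec Cfsg.Agent.Nodes.SubComb Cfsg.Agent.Nodes.Coroot Cfsg.Agent.Nodes.RGDLib
  Cfsg.Agent.Nodes.Sub Cfsg.Agent.KFacts.RgdSL Cfsg.Agent.R2.H27S.Gen
open scoped commutatorElement

variable {I W J W' Y : Type*} [Fintype I] [DecidableEq I] [Group W] {M : CoxeterMatrix I}
  {cs : CoxeterSystem M W} {A : I → I → ℤ} {h : IsCartan M A}
  [Fintype J] [DecidableEq J] [Group W'] {M' : CoxeterMatrix J} {cs' : CoxeterSystem M' W'} {A' : J → J → ℤ}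
  {h' : IsCartan M' A'} [Group Y] {p : ℕ} {T : Subgroup Y} {n : I → Y} {X : (I → ℤ) → Subgroup Y}
  {β : J → I → ℤ} {w : J → W} {i : J → I}

/-! ### Combinatorics -/

section Comb

variable [Finite W] (S : SubSys cs h A' β w i)

include S

variable (cs' h') in
theorem cpr_iota {c d : J → ℤ} (hd : IsRoot cs' h' d) :
    cpr cs h (iota β c) (iota β d) = cpr cs' h' c d := by
  have : Finite W' := S.finite cs' h'
  obtain ⟨v, j, rfl⟩ := hd
  rw [cpr_rep_sr, ← S.rep_phi cs' h', iota_sr]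
  have h1 : iota β c = rep cs h (S.phi cs' h' v) (iota β (rep cs' h' v⁻¹ c)) := by
    rw [S.rep_phi cs' h', rep_apply_inv]
  rw [h1, cpr_rep cs h _ _ (S.isRoot_beta j)]
  conv_lhs => rw [S.eq j]
  rw [cpr_rep_sr, ← S.fn_iota, fn_apply]

variable (cs' h') in
theorem sl_sub (hs : SL cs h) : SL cs' h' := by
  intro x y hx hy
  rw [← cpr_iota cs' h' S hy, ← cpr_iota cs' h' S hx]
  exact hs _ _ (S.isRoot_iota hx) (S.isRoot_iota hy)

end Comb

/-- The commutator relations of a simply laced datum are integral. -/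
theorem hint_of_SL [Finite W] (R : RGD cs h p T n X) (hs : SL cs h) : ∀ x y, IsRoot cs h x → IsRoot cs h y → x ≠ y →
    x ≠ -y → ∀ a ∈ X x, ∀ b ∈ X y,
      ⁅a, b⁆ ∈ ⨆ z : {z : I → ℤ // IsRoot cs h z ∧ ∃ a b : ℤ, 0 < a ∧ 0 < b ∧ z = a • x + b • y}, X z.1 := by
  intro x y hx hy hxy hxy' a ha b hb
  refine (?_ : btw cs h X x y ≤ _) (R.comm x y hx hy hxy hxy' a ha b hb)
  unfold Cfsg.Agent.Nodes.Reps.btw
  refine iSup_le ?_
  rintro ⟨z, hz⟩
  have h1 := (hs.btwn hx hy hxy hxy' hz).2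
  exact le_iSup (fun z : {z : I → ℤ // IsRoot cs h z ∧ ∃ a b : ℤ, 0 < a ∧ 0 < b ∧ z = a • x + b • y} => X z.1)
    ⟨z, hz.1, 1, 1, one_pos, one_pos, by rw [one_smul, one_smul]; exact h1⟩

/-! ### The group -/

variable (cs' h' T X β) in
/-- The group generated by `T` and the root groups of a subsystem. -/
def HS : Subgroup Y := T ⊔ RGD.Sup X {x | ∃ c, IsRoot cs' h' c ∧ x = iota β c}

theorem X_le_HS {c : J → ℤ} (hc : IsRoot cs' h' c) : X (iota β c) ≤ HS cs' h' T X β :=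
  le_trans (RGD.le_Sup (S := {x | ∃ c, IsRoot cs' h' c ∧ x = iota β c}) ⟨c, hc, rfl⟩) le_sup_right

theorem T_le_HS : T ≤ HS cs' h' T X β := le_sup_left

section Grp

variable [Finite W] (R : RGD cs h p T n X) (hs : SL cs h) (S : SubSys cs h A' β w i)
  (hbase : ∀ c, IsRoot cs h (iota β c) → 0 ≤ c ∨ c ≤ 0)

include R hs S hbase

theorem exists_rgd_HS : ∃ (n' : J → ↥(HS cs' h' T X β)),
    (∀ j, Rp cs R.nsys (rfl' cs (w j) (i j)) (n' j : Y)) ∧
    RGD cs' h' p (T.subgroupOf (HS cs' h' T X β)) n' (fun c => (X (iota β c)).subgroupOf (HS cs' h' T X β)) := by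
  have hfin : Finite W' := S.finite cs' h'
  choose g hg using fun j => exists_rp cs R.nsys (w j)
  have R' := rgd_sub (cs' := cs') (h' := h') R S (comm_of_int (cs' := cs') (h' := h') S (hint_of_SL R hs) hbase) hg
  have hn : ∀ j, g j * n (i j) * (g j)⁻¹ ∈ HS cs' h' T X β := by
    intro j
    have h1 := n_mem_LJ R' (J := Set.univ) (Set.mem_univ j)
    refine (?_ : LJ cs' h' T (fun c => X (iota β c)) Set.univ ≤ _) h1
    exact sup_le T_le_HS (RGD.Sup_le fun c hc => X_le_HS hc.1)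
  refine ⟨fun j => ⟨g j * n (i j) * (g j)⁻¹, hn j⟩, fun j => rp_rfl' (hg j) (i j), ?_⟩
  exact rgd_restrict R' (HS cs' h' T X β) (fun c hc => X_le_HS hc) hn

omit [Finite W] R hs S hbase in
theorem GG_HS : GG cs' h' (T.subgroupOf (HS cs' h' T X β)) (fun c => (X (iota β c)).subgroupOf (HS cs' h' T X β)) = ⊤ := by
  rw [eq_top_iff]
  have h1 : HS cs' h' T X β ≤ (GG cs' h' (T.subgroupOf (HS cs' h' T X β))
      (fun c => (X (iota β c)).subgroupOf (HS cs' h' T X β))).map (HS cs' h' T X β).subtype := by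
    refine sup_le ?_ (RGD.Sup_le ?_)
    · intro t ht
      exact ⟨⟨t, T_le_HS ht⟩, T_le_GG ht, rfl⟩
    · rintro _ ⟨c, hc, rfl⟩ u hu
      exact ⟨⟨u, X_le_HS hc hu⟩, X_le_GG (X := fun c => (X (iota β c)).subgroupOf (HS cs' h' T X β)) hc hu, rfl⟩
  rintro ⟨g, hg⟩ -
  obtain ⟨g', hg', e⟩ := h1 hg
  have : g' = ⟨g, hg⟩ := Subtype.ext e
  rwa [← this]

omit [Finite W] R hs S hbase in
theorem G1_HS (hT : T = ⊥) : G1 cs' h' (fun c => (X (iota β c)).subgroupOf (HS cs' h' T X β)) = ⊤ := by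
  rw [← GG_HS (cs' := cs') (h' := h') (T := T) (X := X) (β := β)]
  unfold GG G1
  have h1 : T.subgroupOf (HS cs' h' T X β) = ⊥ := by
    subst hT
    exact Subgroup.bot_subgroupOf _
  rw [h1, bot_sup_eq]

/-- **Simplicity of the group of a subsystem.** -/
theorem simple_HS [Finite Y] [Nonempty J] [Fact p.Prime] (hT : T = ⊥)
    (hconn : ∀ K : Set J, K.Nonempty → K ≠ Set.univ → ∃ a ∈ K, ∃ b, b ∉ K ∧ M' a b ≠ 2)
    (hadj : ∀ i, ∃ j, A' j i = -1) : IsSimpleGroup ↥(HS cs' h' T X β) := by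
  have : Finite W' := S.finite cs' h'
  obtain ⟨n', -, R'⟩ := exists_rgd_HS (cs' := cs') (h' := h') R hs S hbase
  have hG := G1_HS (cs' := cs') (h' := h') (X := X) (β := β) hT
  have hT' : T.subgroupOf (HS cs' h' T X β) = ⊥ := by
    subst hT
    exact Subgroup.bot_subgroupOf _
  exact isSimple R' hG hconn hT' (perfect R' hG (sl_sub cs' h' S hs) hadj)

theorem card_HS [Finite Y] [Fintype W'] {q : ℕ} (hX : ∀ x, IsRoot cs h x → Nat.card (X x) = q) :
    Nat.card ↥(HS cs' h' T X β) = Nat.card T * q ^ (RGD.Pos cs' h').ncard * ∑ w : W', q ^ cs'.length w := by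
  obtain ⟨n', -, R'⟩ := exists_rgd_HS (cs' := cs') (h' := h') R hs S hbase
  have h1 : Nat.card (T.subgroupOf (HS cs' h' T X β)) = Nat.card T :=
    Nat.card_congr (Subgroup.subgroupOfEquivOfLe T_le_HS).toEquiv
  rw [← h1]
  refine card_G R' GG_HS fun j => ?_
  rw [← hX _ (S.isRoot_iota (isRoot_sr cs' h' j))]
  exact Nat.card_congr (Subgroup.subgroupOfEquivOfLe (X_le_HS (isRoot_sr cs' h' j))).toEquiv

/-- The order for components of type `A`. -/
theorem card_HS' [Finite Y] {q : ℕ} (hX : ∀ x, IsRoot cs h x → Nat.card (X x) = q) (L : List ((ℕ → J) × ℕ))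
    (hL : ∀ k : ℕ, ∀ hk : k < L.length, Cfsg.Agent.H35.Poin.APath A'
      (Set.univ \ {j | ∃ e ∈ L.take k, ∃ t < e.2, e.1 t = j}) (L[k].1) (L[k].2))
    (hall : ∀ j, ∃ e ∈ L, ∃ t < e.2, e.1 t = j) :
    Nat.card ↥(HS cs' h' T X β) = Nat.card T * q ^ (RGD.Pos cs' h').ncard *
      (L.map fun e => ∏ i ∈ Finset.range e.2, ∑ t ∈ Finset.range (i + 2), q ^ t).prod := by
  have hfin : Finite W' := S.finite cs' h'
  obtain ⟨n', -, R'⟩ := exists_rgd_HS (cs' := cs') (h' := h') R hs S hbase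
  have h1 : Nat.card (T.subgroupOf (HS cs' h' T X β)) = Nat.card T :=
    Nat.card_congr (Subgroup.subgroupOfEquivOfLe T_le_HS).toEquiv
  have hq : ∀ j, Nat.card ((fun c => (X (iota β c)).subgroupOf (HS cs' h' T X β)) (sr j)) = q := by
    intro j
    rw [← hX _ (S.isRoot_iota (isRoot_sr cs' h' j))]
    exact Nat.card_congr (Subgroup.subgroupOfEquivOfLe (X_le_HS (isRoot_sr cs' h' j))).toEquiv
  have key : ∀ k : ℕ, k ≤ L.length → Nat.card ↥(HS cs' h' T X β) =
      ((L.take k).map fun e => ∏ i ∈ Finset.range e.2, ∑ t ∈ Finset.range (i + 2), q ^ t).prod *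
        Nat.card ↥(PJ cs' h' (T.subgroupOf (HS cs' h' T X β)) (fun c => (X (iota β c)).subgroupOf (HS cs' h' T X β))
          (Set.univ \ {j | ∃ e ∈ L.take k, ∃ t < e.2, e.1 t = j})) := by
    intro k
    induction k with
    | zero =>
      intro _
      have e1 : (Set.univ \ {j | ∃ e ∈ L.take 0, ∃ t < e.2, e.1 t = j} : Set J) = Set.univ := by
        ext j
        simp
      rw [e1, List.take_zero, List.map_nil, List.prod_nil, one_mul]
      exact card_G' R' GG_HS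
    | succ k ih =>
      intro hk
      have hk' : k < L.length := hk
      rw [ih hk'.le, Cfsg.Agent.H35.Poin.card_PJ_path R' (hL k hk') (y := q) (fun t _ => hq _)]
      have e1 : L.take (k + 1) = L.take k ++ [L[k]] := (List.take_concat_get' L k hk').symm
      have e2 : ((Set.univ \ {j | ∃ e ∈ L.take k, ∃ t < e.2, e.1 t = j}) \ {j | ∃ t < (L[k]).2, (L[k]).1 t = j} : Set J)
          = Set.univ \ {j | ∃ e ∈ L.take (k + 1), ∃ t < e.2, e.1 t = j} := by
        rw [e1]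
        ext j
        simp only [Set.mem_sdiff, Set.mem_univ, true_and]
        constructor
        · rintro ⟨h1, h2⟩ ⟨e, he, t, ht, h3⟩
          rw [List.mem_append] at he
          rcases he with he | he
          · exact h1 ⟨e, he, t, ht, h3⟩
          · rw [List.mem_singleton] at he
            subst he
            exact h2 ⟨t, ht, h3⟩
        · intro h1
          refine ⟨?_, ?_⟩
          · rintro ⟨e, he, t, ht, h3⟩
            exact h1 ⟨e, List.mem_append_left _ he, t, ht, h3⟩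
          · rintro ⟨t, ht, h3⟩
            exact h1 ⟨_, List.mem_append_right _ (List.mem_singleton.2 rfl), t, ht, h3⟩
      rw [e2, e1, List.map_append, List.prod_append, List.map_singleton, List.prod_singleton, mul_assoc]
  rw [key L.length le_rfl, List.take_length]
  have e3 : (Set.univ \ {j | ∃ e ∈ L, ∃ t < e.2, e.1 t = j} : Set J) = ∅ := by
    ext j
    simp only [Set.mem_sdiff, Set.mem_univ, true_and, Set.mem_empty_iff_false, iff_false, not_not]
    exact hall j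
  rw [e3, card_PJ_empty R', card_B R' hq, h1, mul_comm]

end Grp

end Cfsg.Agent.R2.H27S.SubG
end

-- part: R2/H27S/ESeven
section
/-!
# The root group datum of `E₇(q)`, `q` even: tables (S5934, box S)
-/

set_option autoImplicit false
set_option linter.unusedSectionVars false
set_option linter.dupNamespace false

namespace Cfsg.Agent.R2.H27S.ESeven

open CoxeterSystem Cfsg.Agent.ChevalleyStructure.CoxeterGeom Cfsg.Agent.Tits.Roots Cfsg.Agent.Tits.Core
  Cfsg.Agent.Nodes.Reps Cfsg.Agent.Nodes.BNOf Cfsg.Agent.Nodes.StabComb Cfsg.Agent.Nodes.Bruhat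
  Cfsg.Agent.Nodes.OppDec Cfsg.Agent.Nodes.LeviDec Cfsg.Agent.Nodes.SubComb Cfsg.Agent.Nodes.Coroot
  Cfsg.Agent.KFacts.RgdSL Cfsg.Agent.KFacts.RgdTI Cfsg.Agent.KFacts.RgdCent Cfsg.Agent.KFacts.RgdPar
open Cfsg.Lie Cfsg.Agent.ChevalleyStructure Cfsg.Agent.ChevalleyStructure.Elts Cfsg.Agent.Nodes.RGDChev
  Cfsg.Agent.ChevalleyStructure.CoxeterGeomTypes
  Cfsg.Agent.KFacts.RgdChevCoord
open Cfsg.Agent.H904.E7Lat Cfsg.Agent.H904.E7Form Cfsg.Agent.H904.E7Main
open scoped commutatorElement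

universe u

/-- the Weyl group -/
abbrev W7 : Type := CoxeterMatrix.E₇.Group
abbrev cs7 : CoxeterSystem CoxeterMatrix.E₇ W7 := CoxeterMatrix.E₇.toCoxeterSystem
abbrev h7 : IsCartan CoxeterMatrix.E₇ (cartanOf chevE7 7) := hp7.isCartan

instance : Finite W7 := finite_W hp7 cs7
noncomputable instance : Fintype W7 := Fintype.ofFinite _

/-- the roots as vectors -/
abbrev rv (r : ℕ) : V := vec chevE7 7 r

theorem nroots_eq : chevE7.nroots = 126 := by decide +kernel

theorem isRoot_iff7 (x : V) : IsRoot cs7 h7 x ↔ ∃ r < 126, rv r = x := by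
  rw [← nroots_eq]
  exact isRoot_iff hp7 cs7 x

theorem isRoot_rv {r : ℕ} (hr : r < 126) : IsRoot cs7 h7 (rv r) := (isRoot_iff7 _).2 ⟨r, hr, rfl⟩

theorem rv_neg {r : ℕ} (hr : r < 126) : rv (chevE7.neg r) = -rv r := vec_neg hp7 (by rw [nroots_eq]; exact hr)

theorem neg_lt7 : ∀ r < 126, chevE7.neg r < 126 := by decide +kernel

theorem cpr_eq (x : V) {y : V} (hy : IsRoot cs7 h7 y) : cpr cs7 h7 x y = bf x y := by
  obtain ⟨w, i, rfl⟩ := hy
  rw [cpr_rep_sr, pairing_eq, bf_symm]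
  have h1 : bf (sr i) (rep cs7 h7 w⁻¹ x) = bf (rep cs7 h7 w (sr i)) x := by
    rw [← bf_rep cs7 w (sr i), rep_apply_inv]
  rw [← h1]
  have h2 := bf_single (rep cs7 h7 w⁻¹ x) i 1
  rw [one_mul] at h2
  exact h2.symm

theorem sl7 : SL cs7 h7 := by
  intro x y hx hy
  rw [cpr_eq x hy, cpr_eq y hx, bf_symm]

theorem Coord_card {Y F : Type*} [Group Y] [Field F] {T P : Subgroup Y} {x : F → Y} {χ : Y → F}
    (C : Cfsg.Agent.KFacts.RgdField.Coord T P x χ) : Nat.card P = Nat.card F := by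
  symm
  refine Nat.card_congr (Equiv.ofBijective (fun a : F => (⟨x a, (C.mem _).2 ⟨a, rfl⟩⟩ : P))
    ⟨fun a b hab => C.inj (congrArg Subtype.val hab), fun y => ?_⟩)
  obtain ⟨a, ha⟩ := (C.mem y).1 y.2
  exact ⟨a, Subtype.ext ha⟩

section Field

variable (K : Type u) [Field K] [Finite K] [CharP K 2]

/-- the root groups -/
abbrev X7 : V → Subgroup ↥(chevE7.group K) := XX chevE7 7 K

abbrev T7 : Subgroup ↥(chevE7.group K) := TT chevE7 K

theorem R7 : RGD cs7 h7 2 (T7 K) (nc hp7 K) (X7 K) := rgd (K := K) hp7 cs7 2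

theorem GG7 : GG cs7 h7 (T7 K) (X7 K) = ⊤ := Cfsg.Agent.BpExc.TorChev.GG_top (K := K) hp7 cs7

theorem lr7 {x : V} (hx : IsRoot cs7 h7 x) : LR (R7 K) x := by
  obtain ⟨w, i, rfl⟩ := hx
  obtain ⟨j, hj⟩ : ∃ j : Fin 7, cartanOf chevE7 7 j i = -1 := by
    simp only [cartan_eq]
    revert i
    decide +kernel
  refine (LR.of_SL (R7 K) sl7 (isRoot_sr cs7 h7 i) (isRoot_sr cs7 h7 j).neg ?_).act w
  rw [cpr_neg_right cs7 h7 _ (isRoot_sr cs7 h7 j), cpr_sr, sr, pairing_single, hj]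
  norm_num

theorem card_X7 {x : V} (hx : IsRoot cs7 h7 x) : Nat.card (X7 K x) = Nat.card K := by
  have C := (coords (K := K) hp7 cs7 2).coord x hx
  exact Coord_card C

end Field

theorem T7_eq_bot (K : Type u) [Field K] [Fintype K] (hK : Fintype.card K = 2) : T7 K = ⊥ := by
  have h1 := Cfsg.Agent.S1035.result (F := K) hK (chevE7, Nat.gcd 2 (2 - 1)) (by simp)
  have h2 : Nat.card (chevE7.diagonalSubgroup K) = 1 := by simpa using h1
  rw [Subgroup.card_eq_one] at h2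
  unfold T7 TT
  rw [h2, Subgroup.bot_subgroupOf]

end Cfsg.Agent.R2.H27S.ESeven
end
end

-- part: R2/E72T/T5tab
section
set_option linter.all false
open scoped Cfsg.Agent.FastGrp
attribute [local instance] Cfsg.Agent.TitsThree.RTFast.decRTb Cfsg.Agent.TitsThree.RTFast.decRTc

/-!
# `U₈(2)` in `E₇(2)`: the table of the subsystem `A₇` (S5934, box T5)
-/

set_option autoImplicit false

namespace Cfsg.Agent.R2.E72T

open Cfsg.Lie Cfsg.Agent.ChevalleyStructure Cfsg.Agent.ChevalleyStructure.Elts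
  Cfsg.Agent.Nodes.RGDChev Cfsg.Agent.KFacts.RgdChevCoord
open Cfsg.Agent.TitsThree.KExcRT

universe u

/-- roots of the subsystem `A₇` -/
def r8 : Fin 8 → Fin 8 → ℕ :=
  ![![0, 0, 1, 2, 3, 4, 5, 6], ![125, 0, 93, 94, 95, 96, 97, 98], ![124, 32, 0, 73, 74, 75, 76, 77],
    ![123, 31, 52, 0, 69, 70, 71, 72], ![122, 30, 51, 56, 0, 66, 67, 68], ![121, 29, 50, 55, 59, 0, 64, 65],
    ![120, 28, 49, 54, 58, 61, 0, 63], ![119, 27, 48, 53, 57, 60, 62, 0]]

/-- signs -/
def s8 : Fin 8 → Fin 8 → ℤ :=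
  ![![1, 1, 1, 1, 1, 1, 1, 1], ![1, 1, 1, -1, 1, -1, 1, -1], ![1, 1, 1, 1, -1, 1, -1, 1],
    ![1, -1, 1, 1, 1, -1, 1, -1], ![1, 1, -1, 1, 1, 1, -1, 1], ![1, -1, 1, -1, 1, 1, 1, -1],
    ![1, 1, -1, 1, -1, 1, 1, 1], ![1, -1, 1, -1, 1, -1, 1, 1]]

theorem rt8 : RTa chevE7 r8 ∧ RTb chevE7 r8 s8 ∧ RTc chevE7 r8 ∧ RTd s8 ∧ (∀ i j, s8 j i = s8 i j) ∧
    ∀ i j, i ≠ j → r8 j i = chevE7.neg (r8 i j) := by decide +kernel

/-- the homomorphism of `SL₈(K)` -/
theorem exists_phi8 (K : Type u) [Field K] [CharP K 2] :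
    ∃ φ : Matrix.SpecialLinearGroup (Fin 8) K →* ↥(chevE7.group K), ∀ a b (hab : a ≠ b) c,
      ((φ (Matrix.SpecialLinearGroup.transvection hab c) : ↥(chevE7.group K)) : GL chevE7.Idx K) =
        xG hp7.inList (r8 a b) c := by
  obtain ⟨h1, h2, h3, h4, h5, h6⟩ := rt8
  obtain ⟨φ, hφ⟩ := Cfsg.Agent.H194.Pw.exists_hom_S (K := K) hp7 h1 h2 h3 h4 h5 h6
  refine ⟨φ, fun a b hab c => ?_⟩
  rw [hφ a b hab c, coe_xc hp7 (h1 a b hab)]
  congr 1
  have h7 : s8 a b = 1 ∨ s8 a b = -1 := mul_self_eq_one_iff.1 (h4 a b)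
  rcases h7 with h | h
  · rw [h, Int.cast_one, one_mul]
  · rw [h, Int.cast_neg, Int.cast_one, CharTwo.neg_eq, one_mul]

end Cfsg.Agent.R2.E72T
end
end
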